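import Mathlib
import Cfsg.Prelude.Def_Involutions
import Cfsg.Prelude.Def_LieExceptional

/-!
# Project CAI (S2202): finite groups in which every involution has an abelian centralizer

Interface file: definitions and package statements (`Pkg*` are closed propositions).  No proofs.

Notation (for `P : Sylow 2 G`; `G` acts on `Sylow 2 G` by conjugation, `g • P`):
`Cz P = C_G(P)`, `Bz P` = the odd part of `Cz P`, `Dz P Q` = the two-point stabilizer,
`mInv P` = the number of involutions of `P`.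
-/

set_option autoImplicit false

namespace Cfsg.Agent.Lib.Helper50.CAI

universe u

section defs

variable {G : Type u} [Group G]

/-- (CA): the centralizer of every involution is abelian. -/
def CAGroup (G : Type u) [Group G] : Prop :=
  ∀ t : G, orderOf t = 2 → IsMulCommutative ↥(Subgroup.centralizer ({t} : Set G))

/-- The centralizer of a Sylow 2-subgroup. -/
def Cz (P : Sylow 2 G) : Subgroup G := Subgroup.centralizer ((P : Subgroup G) : Set G)

/-- The odd part of `Cz P` (a subgroup when `Cz P` is abelian). -/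
def Bz (P : Sylow 2 G) : Subgroup G := Subgroup.closure {x : G | x ∈ Cz P ∧ Odd (orderOf x)}

/-- The two-point stabilizer. -/
def Dz (P Q : Sylow 2 G) : Subgroup G := MulAction.stabilizer G P ⊓ MulAction.stabilizer G Q

/-- The number of involutions of `P`. -/
noncomputable def mInv (P : Sylow 2 G) : ℕ :=
  Nat.card {t : G // t ∈ (P : Subgroup G) ∧ orderOf t = 2}

/-- Standing hypothesis: (CA), Sylow 2-subgroups neither cyclic nor normal. -/
structure Hyp (G : Type u) [Group G] : Prop where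
  ca : CAGroup G
  ncyc : ∀ P : Sylow 2 G, ¬ IsCyclic ↥(P : Subgroup G)
  nnorm : ∀ P : Sylow 2 G, ¬ (P : Subgroup G).Normal

/-- The odd parts `Bz P` intersect pairwise trivially. -/
def BTI (G : Type u) [Group G] : Prop :=
  ∀ P Q : Sylow 2 G, P ≠ Q → ∀ x ∈ Bz P, x ∈ Bz Q → x = 1

/-- Basic facts about a Sylow 2-subgroup of a group satisfying `Hyp`. -/
structure BasicFacts (P : Sylow 2 G) : Prop where
  comm : ∀ x ∈ Cz P, ∀ y ∈ Cz P, x * y = y * x
  le : (P : Subgroup G) ≤ Cz P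
  cent : ∀ t ∈ (P : Subgroup G), orderOf t = 2 → Subgroup.centralizer ({t} : Set G) = Cz P
  memB : ∀ x : G, x ∈ Bz P ↔ x ∈ Cz P ∧ Odd (orderOf x)
  split : ∀ x ∈ Cz P, ∃ s ∈ (P : Subgroup G), ∃ b ∈ Bz P, x = s * b
  ti : ∀ Q : Sylow 2 G, Q ≠ P → ∀ x ∈ (P : Subgroup G), x ∈ (Q : Subgroup G) → x = 1
  fix2 : ∀ x : G, x • P = P → (∃ k : ℕ, x ^ (2 ^ k) = 1) → x ∈ (P : Subgroup G)
  conjB : ∀ g x : G, x ∈ Bz (g • P) ↔ g⁻¹ * x * g ∈ Bz P
  conjC : ∀ g x : G, x ∈ Cz (g • P) ↔ g⁻¹ * x * g ∈ Cz P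
  three : 3 ≤ mInv P
  minv : ∀ Q : Sylow 2 G, mInv Q = mInv P

/-- Every pair of Sylow 2-subgroups is swapped by an involution `t`, and `t` inverts exactly
`mInv P` elements of the two-point stabilizer. -/
def SwapFacts (G : Type u) [Group G] : Prop :=
  ∀ P Q : Sylow 2 G, P ≠ Q →
    (∃ t : G, orderOf t = 2 ∧ t • P = Q) ∧
    ∀ t : G, orderOf t = 2 → t • P = Q →
      Nat.card {x : G // x ∈ Dz P Q ∧ t * x * t = x⁻¹} = mInv P

/-- Facts about the two-point stabilizer `Dz P Q`. -/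
structure InvFacts (P Q : Sylow 2 G) : Prop where
  card : Nat.card ↥(Dz P Q) = mInv P
  inv : ∀ t : G, orderOf t = 2 → t • P = Q → ∀ d ∈ Dz P Q, t * d * t = d⁻¹
  triv : ∀ x ∈ Dz P Q, x ∈ Cz P → x = 1
  prod : ∀ g : G, g • P = P → ∃ d ∈ Dz P Q, ∃ c ∈ Cz P, g = d * c
  odd : ∀ d ∈ Dz P Q, d ≠ 1 → ∀ z : G, orderOf z = 2 → z * d ≠ d * z

/-- The Zassenhaus-type structure of `G` on `Sylow 2 G`. -/
structure ZFacts (G : Type u) [Group G] : Prop where
  swap : SwapFacts G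
  semi : ∀ P Q : Sylow 2 G, P ≠ Q → ∀ b ∈ Bz P, b • Q = Q → b = 1
  inv : ∀ P Q : Sylow 2 G, P ≠ Q → InvFacts P Q
  fix2 : ∀ P Q : Sylow 2 G, P ≠ Q → ∀ d ∈ Dz P Q, d ≠ 1 →
    ∀ R : Sylow 2 G, d • R = R → R = P ∨ R = Q
  reg : ∀ P Q Q' : Sylow 2 G, Q ≠ P → Q' ≠ P →
    ∃ c ∈ Cz P, c • Q = Q' ∧ ∀ c' ∈ Cz P, c' • Q = Q' → c' = c

end defs

/-! ## Packages -/

/-- [BASIC] -/
def PkgBasic : Prop :=
  ∀ {G : Type u} [Group G] [Finite G], Hyp G → ∀ P : Sylow 2 G, BasicFacts P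

/-- [INJ] the involutions swapping `P, Q` correspond to the elements of `Dz P Q` inverted by one
of them, and these inject into the involutions of `P`. -/
def PkgInj : Prop :=
  ∀ {G : Type u} [Group G] [Finite G], Hyp G → BTI G →
    ∀ P Q : Sylow 2 G, P ≠ Q → ∀ t : G, orderOf t = 2 → t • P = Q →
      Nat.card {u : G // orderOf u = 2 ∧ u • P = Q} =
        Nat.card {x : G // x ∈ Dz P Q ∧ t * x * t = x⁻¹} ∧
      Nat.card {x : G // x ∈ Dz P Q ∧ t * x * t = x⁻¹} ≤ mInv P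

/-- [DC] double counting of (involution, moved point). -/
def PkgDC : Prop :=
  ∀ {G : Type u} [Group G] [Finite G], Hyp G →
    (∀ P Q : Sylow 2 G, P ≠ Q → Nat.card {u : G // orderOf u = 2 ∧ u • P = Q} ≤ mInv P) →
    ∀ P Q : Sylow 2 G, P ≠ Q → Nat.card {u : G // orderOf u = 2 ∧ u • P = Q} = mInv P

/-- [SWAP] -/
def PkgSwap : Prop :=
  ∀ {G : Type u} [Group G] [Finite G], Hyp G → BTI G → SwapFacts G

/-- [SEMI] `Bz P` acts semiregularly on the other Sylow 2-subgroups. -/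
def PkgSemi : Prop :=
  ∀ {G : Type u} [Group G] [Finite G], Hyp G → BTI G → SwapFacts G →
    ∀ P Q : Sylow 2 G, P ≠ Q → ∀ b ∈ Bz P, b • Q = Q → b = 1

/-- [INV] -/
def PkgInv : Prop :=
  ∀ {G : Type u} [Group G] [Finite G], Hyp G → BTI G → SwapFacts G →
    (∀ P Q : Sylow 2 G, P ≠ Q → ∀ b ∈ Bz P, b • Q = Q → b = 1) →
    ∀ P Q : Sylow 2 G, P ≠ Q → InvFacts P Q

/-- [FIX2] a non-identity element of a two-point stabilizer fixes exactly two points. -/
def PkgFix2 : Prop :=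
  ∀ {G : Type u} [Group G] [Finite G], Hyp G → BTI G → SwapFacts G →
    (∀ P Q : Sylow 2 G, P ≠ Q → InvFacts P Q) →
    ∀ P Q : Sylow 2 G, P ≠ Q → ∀ d ∈ Dz P Q, d ≠ 1 →
      ∀ R : Sylow 2 G, d • R = R → R = P ∨ R = Q

/-- [REG] `Cz P` is regular on the other Sylow 2-subgroups. -/
def PkgReg : Prop :=
  ∀ {G : Type u} [Group G] [Finite G], Hyp G → BTI G → SwapFacts G →
    (∀ P Q : Sylow 2 G, P ≠ Q → InvFacts P Q) →
    (∀ P Q : Sylow 2 G, P ≠ Q → ∀ d ∈ Dz P Q, d ≠ 1 →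
      ∀ R : Sylow 2 G, d • R = R → R = P ∨ R = Q) →
    ∀ P Q Q' : Sylow 2 G, Q ≠ P → Q' ≠ P →
      ∃ c ∈ Cz P, c • Q = Q' ∧ ∀ c' ∈ Cz P, c' • Q = Q' → c' = c

/-- [Z] the whole structure. -/
def PkgZ : Prop :=
  ∀ {G : Type u} [Group G] [Finite G], Hyp G → BTI G → ZFacts G

/-- [ZAS] -/
def PkgZas : Prop :=
  ∀ {G : Type u} [Group G] [Finite G], Hyp G → BTI G → ZFacts G →
    Cfsg.IsZassenhausGroup G (Sylow 2 G)

/-- [ELEM] the centralizers `Cz P` are elementary abelian 2-groups (uses S0885 and S0738). -/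
def PkgElem : Prop :=
  ∀ {G : Type u} [Group G] [Finite G], Hyp G → BTI G → ZFacts G →
    Cfsg.IsZassenhausGroup G (Sylow 2 G) → ∀ P : Sylow 2 G, ∀ x ∈ Cz P, x ^ 2 = 1

/-- [NOHALL] no subgroup of odd order is transitive on the involutions. -/
def PkgNoHall : Prop :=
  ∀ {G : Type u} [Group G] [Finite G], Hyp G → (∀ P : Sylow 2 G, Bz P = ⊥) → ZFacts G →
    ∀ D : Subgroup G, Odd (Nat.card D) →
      (∀ s t : G, orderOf s = 2 → orderOf t = 2 → ∃ d ∈ D, d * s * d⁻¹ = t) → False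

/-- [SUB] subgroups containing two Sylow 2-subgroups. -/
def PkgSub : Prop :=
  ∀ {G : Type u} [Group G] [Finite G], Hyp G → ∀ X : Subgroup G, ∀ P Q : Sylow 2 G, P ≠ Q →
    (P : Subgroup G) ≤ X → (Q : Subgroup G) ≤ X →
    Hyp ↥X ∧
    (∀ R : Sylow 2 G, (R : Subgroup G) ≤ X → ∃ R' : Sylow 2 ↥X,
      (R' : Subgroup ↥X).map X.subtype = (R : Subgroup G) ∧
        (Bz R').map X.subtype = Bz R ⊓ X) ∧
    (∀ R' : Sylow 2 ↥X, ∃ R : Sylow 2 G, (R : Subgroup G) ≤ X ∧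
      (R' : Subgroup ↥X).map X.subtype = (R : Subgroup G) ∧
        (Bz R').map X.subtype = Bz R ⊓ X)

/-- [QUOT] quotients by a normal subgroup contained in all `Bz P`. -/
def PkgQuot : Prop :=
  ∀ {G : Type u} [Group G] [Finite G], Hyp G → ∀ (N : Subgroup G) [N.Normal],
    (∀ P : Sylow 2 G, N ≤ Bz P) →
    Hyp (G ⧸ N) ∧ Odd (Nat.card N) ∧
    (∀ P : Sylow 2 G, ∃ P' : Sylow 2 (G ⧸ N), Bz P' = (Bz P).map (QuotientGroup.mk' N)) ∧
    (∀ P' : Sylow 2 (G ⧸ N), ∃ P : Sylow 2 G, Bz P' = (Bz P).map (QuotientGroup.mk' N)) ∧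
    (∀ t' : G ⧸ N, orderOf t' = 2 → ∃ t : G, orderOf t = 2 ∧ QuotientGroup.mk' N t = t')

/-- [DICH] with trivial core and the induction hypothesis for proper subgroups: two odd parts
are equal or meet trivially. -/
def PkgDich : Prop :=
  ∀ {G : Type u} [Group G] [Finite G], Hyp G →
    (∀ b : G, (∀ P : Sylow 2 G, b ∈ Bz P) → b = 1) →
    (∀ Y : Subgroup G, Y ≠ ⊤ → Hyp ↥Y → ∀ P' Q' : Sylow 2 ↥Y, Bz P' = Bz Q') →
    ∀ P Q : Sylow 2 G, Bz P = Bz Q ∨ ∀ x ∈ Bz P, x ∈ Bz Q → x = 1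

/-- [BLOCK] two different Sylow 2-subgroups with the same odd part force it to be normal. -/
def PkgBlock : Prop :=
  ∀ {G : Type u} [Group G] [Finite G], Hyp G → ∀ P Q : Sylow 2 G, P ≠ Q → Bz P = Bz Q →
    Subgroup.normalizer ((Bz P : Subgroup G) : Set G) ≠ ⊤ → False

/-- [NB] the odd part does not depend on the Sylow 2-subgroup. -/
def PkgNB : Prop :=
  ∀ {G : Type u} [Group G] [Finite G], Hyp G → ∀ P Q : Sylow 2 G, Bz P = Bz Q

/-- [PSL] the quotient by the common odd part is `PSL₂` (uses S1230). -/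
def PkgPSL : Prop :=
  ∀ {G : Type u} [Group G] [Finite G], Hyp G → ∀ (B : Subgroup G) [B.Normal],
    (∀ P : Sylow 2 G, Bz P = B) →
    ∃ (F : Type) (_ : Field F) (_ : Fintype F), CharP F 2 ∧ 4 ≤ Fintype.card F ∧
      Nonempty (G ⧸ B ≃* Matrix.ProjectiveSpecialLinearGroup (Fin 2) F)

/-- [SPLIT] an extension of `PSL₂(F)`, `F` of characteristic 2, by an abelian normal subgroup of
odd order centralized by all involutions is a direct product with `SL₂(F)`. -/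
def PkgSplit : Prop :=
  ∀ {G : Type u} [Group G] [Finite G] (B : Subgroup G) [B.Normal] (F : Type) [Field F]
    [Fintype F], CharP F 2 → 4 ≤ Fintype.card F → Odd (Nat.card B) →
    (∀ x ∈ B, ∀ y ∈ B, x * y = y * x) →
    (∀ t : G, orderOf t = 2 → ∀ b ∈ B, t * b = b * t) →
    Nonempty (G ⧸ B ≃* Matrix.ProjectiveSpecialLinearGroup (Fin 2) F) →
    Nonempty (G ≃* Matrix.SpecialLinearGroup (Fin 2) F × ↥B)

end Cfsg.Agent.Lib.Helper50.CAI
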