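import Mathlib
import Cfsg.Agent.Lib.Helper50.CAI.Defs

/-!
# Project CAI (S2202): assemblies SWAP, Z and NB
-/

set_option autoImplicit false

namespace Cfsg.Agent.Lib.Helper50.CAI

universe u

theorem pkgSwap (hB : PkgBasic.{u}) (hInj : PkgInj.{u}) (hDC : PkgDC.{u}) : PkgSwap.{u} := by
  intro G _ _ hyp hbti
  have hle : ∀ P Q : Sylow 2 G, P ≠ Q →
      Nat.card {u : G // orderOf u = 2 ∧ u • P = Q} ≤ mInv P := by
    intro P Q hPQ
    by_cases hex : ∃ t : G, orderOf t = 2 ∧ t • P = Q
    · obtain ⟨t, ht, htP⟩ := hex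
      have h := hInj hyp hbti P Q hPQ t ht htP
      rw [h.1]; exact h.2
    · have hemp : IsEmpty {u : G // orderOf u = 2 ∧ u • P = Q} := ⟨fun u => hex ⟨u.1, u.2⟩⟩
      rw [Nat.card_of_isEmpty]; exact Nat.zero_le _
  have heq := hDC hyp hle
  intro P Q hPQ
  have h3 := (hB hyp P).three
  have hcard := heq P Q hPQ
  have hex : ∃ t : G, orderOf t = 2 ∧ t • P = Q := by
    by_contra hex
    have hemp : IsEmpty {u : G // orderOf u = 2 ∧ u • P = Q} := ⟨fun u => hex ⟨u.1, u.2⟩⟩
    rw [Nat.card_of_isEmpty] at hcard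
    omega
  refine ⟨hex, ?_⟩
  intro t ht htP
  have h := hInj hyp hbti P Q hPQ t ht htP
  rw [← h.1, hcard]

theorem pkgZ (hSwap : PkgSwap.{u}) (hSemi : PkgSemi.{u}) (hInv : PkgInv.{u})
    (hFix2 : PkgFix2.{u}) (hReg : PkgReg.{u}) : PkgZ.{u} := by
  intro G _ _ hyp hbti
  have h1 := hSwap hyp hbti
  have h2 := hSemi hyp hbti h1
  have h3 := hInv hyp hbti h1 h2
  have h4 := hFix2 hyp hbti h1 h3
  have h5 := hReg hyp hbti h1 h3 h4
  exact ⟨h1, h2, h3, h4, h5⟩

theorem card_subgroup_lt {G : Type u} [Group G] [Finite G] (Y : Subgroup G) (hY : Y ≠ ⊤) :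
    Nat.card ↥Y < Nat.card G := by
  have h1 := Subgroup.card_mul_index Y
  have h2 : Y.index ≠ 1 := fun h => hY (Subgroup.index_eq_one.mp h)
  have h3 : Y.index ≠ 0 := Subgroup.index_ne_zero_of_finite
  have h4 : 0 < Nat.card ↥Y := Nat.card_pos
  have h5 : 2 ≤ Y.index := by omega
  calc Nat.card ↥Y < Nat.card ↥Y * 2 := by omega
    _ ≤ Nat.card ↥Y * Y.index := Nat.mul_le_mul_left _ h5
    _ = Nat.card G := h1

theorem card_quotient_lt {G : Type u} [Group G] [Finite G] (N : Subgroup G) [N.Normal]
    (hN : N ≠ ⊥) : Nat.card (G ⧸ N) < Nat.card G := by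
  have h1 := Subgroup.card_eq_card_quotient_mul_card_subgroup N
  have h2 : Nat.card ↥N ≠ 1 := fun h => hN (Subgroup.card_eq_one.mp h)
  have h3 : 0 < Nat.card ↥N := Nat.card_pos
  have h4 : 0 < Nat.card (G ⧸ N) := Nat.card_pos
  have h5 : 2 ≤ Nat.card ↥N := by omega
  calc Nat.card (G ⧸ N) < Nat.card (G ⧸ N) * 2 := by omega
    _ ≤ Nat.card (G ⧸ N) * Nat.card ↥N := Nat.mul_le_mul_left _ h5
    _ = Nat.card G := h1.symm

theorem pkgNB (hB : PkgBasic.{u}) (hQuot : PkgQuot.{u}) (hDich : PkgDich.{u})
    (hBlock : PkgBlock.{u}) (hZ : PkgZ.{u}) (hZas : PkgZas.{u}) (hElem : PkgElem.{u}) :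
    PkgNB.{u} := by
  have key : ∀ n : ℕ, ∀ (G : Type u) [Group G] [Finite G], Nat.card G = n → Hyp G →
      ∀ P Q : Sylow 2 G, Bz P = Bz Q := by
    intro n
    induction n using Nat.strong_induction_on with
    | _ n ih =>
      intro G _ _ hn hyp P Q
      obtain ⟨N, hNdef⟩ : ∃ N : Subgroup G, N = ⨅ R : Sylow 2 G, Bz R := ⟨_, rfl⟩
      have hNle : ∀ R : Sylow 2 G, N ≤ Bz R := fun R => by rw [hNdef]; exact iInf_le _ R
      have hNmem : ∀ b : G, (∀ R : Sylow 2 G, b ∈ Bz R) → b ∈ N := by
        intro b hb; rw [hNdef]; exact Subgroup.mem_iInf.mpr hb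
      have hNnormal : N.Normal := by
        constructor
        intro x hx g
        apply hNmem
        intro R
        have h1 := (hB hyp (g⁻¹ • R)).conjB g (g * x * g⁻¹)
        rw [smul_inv_smul] at h1
        rw [h1]
        have h2 : g⁻¹ * (g * x * g⁻¹) * g = x := by group
        rw [h2]; exact hNle _ hx
      by_cases hN : N = ⊥
      · have hcore : ∀ b : G, (∀ R : Sylow 2 G, b ∈ Bz R) → b = 1 := by
          intro b hb
          have h1 := hNmem b hb
          rw [hN] at h1
          exact Subgroup.mem_bot.mp h1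
        have hIH : ∀ Y : Subgroup G, Y ≠ ⊤ → Hyp ↥Y →
            ∀ P' Q' : Sylow 2 ↥Y, Bz P' = Bz Q' := by
          intro Y hY hypY P' Q'
          have hlt : Nat.card ↥Y < n := by rw [← hn]; exact card_subgroup_lt Y hY
          exact ih (Nat.card ↥Y) hlt ↥Y rfl hypY P' Q'
        have hdich := hDich hyp hcore hIH
        by_cases hall : ∀ P₁ Q₁ : Sylow 2 G, P₁ ≠ Q₁ → Bz P₁ ≠ Bz Q₁
        · have hbti : BTI G := by
            intro P₁ Q₁ hne
            rcases hdich P₁ Q₁ with h | h
            · exact absurd h (hall P₁ Q₁ hne)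
            · exact h
          have hz := hZ hyp hbti
          have hzas := hZas hyp hbti hz
          have helem := hElem hyp hbti hz hzas
          have hbot : ∀ R : Sylow 2 G, Bz R = ⊥ := by
            intro R
            rw [eq_bot_iff]
            intro x hx
            rw [Subgroup.mem_bot]
            have hm := ((hB hyp R).memB x).1 hx
            have h2 := helem R x hm.1
            have hdvd : orderOf x ∣ 2 := orderOf_dvd_of_pow_eq_one h2
            have hodd := hm.2
            have h1 : orderOf x = 1 := by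
              rcases (Nat.dvd_prime Nat.prime_two).mp hdvd with h | h
              · exact h
              · rw [h] at hodd; exact absurd hodd (by decide)
            exact orderOf_eq_one_iff.mp h1
          rw [hbot P, hbot Q]
        · push Not at hall
          obtain ⟨P₁, Q₁, hne, heq⟩ := hall
          by_cases hnorm : Subgroup.normalizer ((Bz P₁ : Subgroup G) : Set G) = ⊤
          · have hall2 : ∀ R : Sylow 2 G, Bz R = Bz P₁ := by
              intro R
              obtain ⟨g, rfl⟩ := MulAction.exists_smul_eq G P₁ R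
              ext x
              rw [(hB hyp P₁).conjB g x]
              have hg : g⁻¹ ∈ Subgroup.normalizer ((Bz P₁ : Subgroup G) : Set G) := by
                rw [hnorm]; exact Subgroup.mem_top _
              rw [Subgroup.mem_normalizer_iff] at hg
              have h1 := hg x
              rw [inv_inv] at h1
              exact h1.symm
            rw [hall2 P, hall2 Q]
          · exact (hBlock hyp P₁ Q₁ hne heq hnorm).elim
      · have := hNnormal
        obtain ⟨hypQ, -, hP, -, -⟩ := hQuot hyp N hNle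
        have hlt : Nat.card (G ⧸ N) < n := by rw [← hn]; exact card_quotient_lt N hN
        have hq := ih (Nat.card (G ⧸ N)) hlt (G ⧸ N) rfl hypQ
        obtain ⟨P', hP'⟩ := hP P
        obtain ⟨Q', hQ'⟩ := hP Q
        have hmap : (Bz P).map (QuotientGroup.mk' N) = (Bz Q).map (QuotientGroup.mk' N) := by
          rw [← hP', ← hQ', hq P' Q']
        have h1 := congrArg (Subgroup.comap (QuotientGroup.mk' N)) hmap
        rw [QuotientGroup.comap_map_mk', QuotientGroup.comap_map_mk'] at h1
        rwa [sup_eq_right.mpr (hNle P), sup_eq_right.mpr (hNle Q)] at h1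
  intro G _ _ hyp P Q
  exact key (Nat.card G) G rfl hyp P Q

end Cfsg.Agent.Lib.Helper50.CAI
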