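import Mathlib
import Cfsg.Agent.Lib.Helper50.CAI.Defs

/-!
# Project CAI (S2202): the final assembly, parametrised over the packages
-/

set_option autoImplicit false

namespace Cfsg.Agent.Lib.Helper50.CAI

universe u

/-- A finite group with commutative multiplication has a model in `Type`. -/
theorem exists_small_model {B : Type u} [Group B] [Finite B] (hcomm : ∀ x y : B, x * y = y * x) :
    ∃ (A : Type) (_ : CommGroup A) (_ : Finite A), Nat.card A = Nat.card B ∧
      Nonempty (B ≃* A) := by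
  let eqv : {k : ℕ // k < Nat.card B} ≃ B := Fin.equivSubtype.symm.trans (Finite.equivFin B).symm
  letI cg : CommGroup B := { (inferInstance : Group B) with mul_comm := hcomm }
  letI cgA : CommGroup {k : ℕ // k < Nat.card B} := eqv.commGroup
  have em : {k : ℕ // k < Nat.card B} ≃* B := eqv.mulEquiv
  exact ⟨{k : ℕ // k < Nat.card B}, cgA, Finite.of_equiv B eqv.symm, Nat.card_congr eqv,
    ⟨em.symm⟩⟩

theorem final (hB : PkgBasic.{u}) (hNB : PkgNB.{u}) (hPSL : PkgPSL.{u}) (hSplit : PkgSplit.{u})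
    {G : Type u} [Group G] [Finite G]
    (h : ∀ t : G, orderOf t = 2 → IsMulCommutative ↥(Subgroup.centralizer ({t} : Set G))) :
    (∀ P : Sylow 2 G, IsCyclic ↥P) ∨ (∀ P : Sylow 2 G, (P : Subgroup G).Normal) ∨
    (∃ (F : Type) (_ : Field F) (_ : Fintype F) (A : Type) (_ : CommGroup A) (_ : Finite A),
      CharP F 2 ∧ Odd (Nat.card A) ∧
      Nonempty (G ≃* Matrix.SpecialLinearGroup (Fin 2) F × A)) := by
  by_cases hcyc : ∀ P : Sylow 2 G, IsCyclic ↥P
  · exact Or.inl hcyc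
  by_cases hnorm : ∀ P : Sylow 2 G, (P : Subgroup G).Normal
  · exact Or.inr (Or.inl hnorm)
  refine Or.inr (Or.inr ?_)
  have hyp : Hyp G := by
    refine ⟨h, ?_, ?_⟩
    · intro P hP
      apply hcyc
      intro Q
      obtain ⟨g, rfl⟩ := MulAction.exists_smul_eq G P Q
      exact (MulEquiv.isCyclic (Sylow.equivSMul P g)).mp hP
    · intro P hP
      apply hnorm
      intro Q
      obtain ⟨g, rfl⟩ := MulAction.exists_smul_eq G P Q
      haveI := hP
      rw [Sylow.smul_eq_of_normal]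
      exact hP
  obtain ⟨P₀⟩ : Nonempty (Sylow 2 G) := inferInstance
  have hbf := hB hyp
  have hnb := hNB hyp
  obtain ⟨B, hBdef⟩ : ∃ B : Subgroup G, B = Bz P₀ := ⟨_, rfl⟩
  have hBall : ∀ P : Sylow 2 G, Bz P = B := fun P => by rw [hBdef]; exact hnb P P₀
  have hBnormal : B.Normal := by
    constructor
    intro x hx g
    rw [← hBall (g • P₀), (hbf P₀).conjB g]
    have h2 : g⁻¹ * (g * x * g⁻¹) * g = x := by group
    rw [h2, hBall P₀]; exact hx
  haveI := hBnormal
  obtain ⟨F, hF, hFt, hchar, h4, ⟨e⟩⟩ := hPSL hyp B hBall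
  have hmemB : ∀ x : G, x ∈ B → x ∈ Cz P₀ ∧ Odd (orderOf x) := by
    intro x hx
    rw [← hBall P₀] at hx
    exact ((hbf P₀).memB x).1 hx
  have hBodd : Odd (Nat.card ↥B) := by
    by_contra hne
    rw [Nat.not_odd_iff_even] at hne
    have h2 : 2 ∣ Nat.card ↥B := hne.two_dvd
    haveI : Fact (Nat.Prime 2) := ⟨Nat.prime_two⟩
    obtain ⟨x, hx⟩ := exists_prime_orderOf_dvd_card' 2 h2
    have hx' : orderOf (x : G) = 2 := by rw [Subgroup.orderOf_coe]; exact hx
    have h3 := (hmemB x x.2).2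
    rw [hx'] at h3
    exact absurd h3 (by decide)
  have hBcomm : ∀ x ∈ B, ∀ y ∈ B, x * y = y * x := by
    intro x hx y hy
    exact (hbf P₀).comm x (hmemB x hx).1 y (hmemB y hy).1
  have hBinv : ∀ t : G, orderOf t = 2 → ∀ b ∈ B, t * b = b * t := by
    intro t ht b hb
    obtain ⟨P, hP⟩ : ∃ P : Sylow 2 G, t ∈ (P : Subgroup G) := by
      have hpg : IsPGroup 2 (Subgroup.zpowers t) := by
        apply IsPGroup.of_card (n := 1)
        rw [Nat.card_zpowers, ht]; rfl
      obtain ⟨P, hP⟩ := hpg.exists_le_sylow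
      exact ⟨P, hP (Subgroup.mem_zpowers t)⟩
    have hb' : b ∈ Bz P := by rw [hBall P]; exact hb
    have hbc : b ∈ Cz P := (((hbf P).memB b).1 hb').1
    exact Subgroup.mem_centralizer_iff.mp hbc t hP
  obtain ⟨e2⟩ := hSplit B F hchar h4 hBodd hBcomm hBinv ⟨e⟩
  obtain ⟨A, hA1, hA2, hAcard, ⟨eA⟩⟩ :=
    exists_small_model (B := ↥B) (fun x y => Subtype.ext (hBcomm x x.2 y y.2))
  refine ⟨F, hF, hFt, A, hA1, hA2, hchar, ?_, ⟨e2.trans (MulEquiv.prodCongr (MulEquiv.refl _) eA)⟩⟩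
  rw [hAcard]; exact hBodd

end Cfsg.Agent.Lib.Helper50.CAI
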